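import Cfsg.Agent.Lib.CosetEnum.Defs

/-! Generated table data. -/

set_option autoImplicit false
set_option maxRecDepth 20000

namespace Cfsg.Lib.CosetEnum.Fi24Y5

/-- Table data. -/
def tabC_0_0 : Tab :=
  (.node 15 (.node 7 (.node 3 (.node 1 (.leaf 0x4000000000000000f) (.node 1 (.leaf 0x40000000000000010) (.leaf 0x40000000000000011))) (.node 2 (.node 1 (.leaf 0x40000000000000012) (.leaf 0x10000100000500000c0000200000c00005)) (.node 1 (.leaf 0x1000000000000000300000200000000008) (.leaf 0x1000004000010000380000200000400007)))) (.node 4 (.node 2 (.node 1 (.leaf 0x10000000000000002c000020000000000b) (.leaf 0x100000400001000040000020000040000a)) (.node 1 (.leaf 0x100000000000000028000020000000000d) (.leaf 0x100000c0000200000c0000200003c0000300000800006))) (.node 2 (.node 1 (.leaf 0x100001000002000010000020000440000300000800009) (.leaf 0x10000180000d000050000060000340000200001400006)) (.node 1 (.leaf 0x100001c000070000540000200001c00007) (.leaf 0x1000020000080000580000200002000008))))) (.node 8 (.node 4 (.node 2 (.node 1 (.leaf 0x10000180000500004c000060000140000200001000009) (.leaf 0x100001c000070000600000200001c0000a))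 (.node 1 (.leaf 0x100002000008000064000020000200000b) (.leaf 0x10000080000100000800001000048000030000040000c))) (.node 2 (.node 1 (.leaf 0x100000c0001b00000c0000100000c00007) (.leaf 0x10000100001b0000100000100000c0000a)) (.node 1 (.leaf 0x10000340001d0000340000100001400007) (.leaf 0x100001c0000600007800007000018000020000180000c)))) (.node 4 (.node 2 (.node 1 (.leaf 0x10000200000800007c000020000200000d) (.leaf 0x10000040000000000400000000024000030000000000e)) (.node 1 (.leaf 0x100000800021000008000010000080000d) (.leaf 0x100000c0002200000c0000100000c00008))) (.node 2 (.node 1 (.leaf 0x1000010000220000100000100000c0000b) (.leaf 0x1000034000240000340000100001400008)) (.node 1 (.leaf 0x100001800025000018000010000180000d) (.leaf 0x1000020000070000980000800001c0000200001c0000e))))))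

/-- Table data. -/
def tabC_0 : Tab :=
  tabC_0_0

end Cfsg.Lib.CosetEnum.Fi24Y5
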