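import Cfsg.Agent.Lib.CosetEnum.Defs

/-! Generated table data. -/

set_option autoImplicit false
set_option maxRecDepth 20000

namespace Cfsg.Lib.CosetEnum.Fi24Y5

/-- Table data. -/
def tabF_0_0 : Tab :=
  (.leaf 0x480001240000000000380000e30000000000300000c30000000000280000a30000000000200000830000000000180000630000000000100000430000000000480001250000000000400001050000000000300000c40000000000280000a40000000000200000840000000000180000640000000000480001260000000000400001060000000000380000e600000000004800012a00000000004000010a0000000000380000ea0000000000280000a500000000002000008500000000000800002500000000001000004600000000000800002600000000001000004a00000000000800002a0000000000300000aa00000000000000000a0000000000000000060000000000000000050000000000000000040000000000400001230000000000380001040000000000300000e50000000000200000c60000000000180000a600000000001800008a000000000010000065000000000008000044000000000000000023)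

/-- Table data. -/
def tabF_0 : Tab :=
  tabF_0_0

end Cfsg.Lib.CosetEnum.Fi24Y5
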